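import Mathlib

/-!
# A group of automorphisms transitive on embeddings is the Galois group
-/

set_option autoImplicit false
universe u

namespace Groth.Agent.FreeFieldPoint

theorem exists_galois_equiv {k L : Type u} [Field k] [Field L] [Algebra k L] [FiniteDimensional k L]
    [Algebra.IsSeparable k L] {H : Type*} [Group H] (a : H → (L ≃ₐ[k] L))
    (hmul : ∀ g h, a (g * h) = (a g).trans (a h)) (hinj : Function.Injective a)
    (htrans : ∀ σ : L →ₐ[k] AlgebraicClosure L,
      ∃ h, σ = (IsScalarTower.toAlgHom k L (AlgebraicClosure L)).comp (a h).toAlgHom) :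
    IsGalois k L ∧ Finite H ∧ ∃ e : H ≃* (L ≃ₐ[k] L), ∀ h, (e h).symm = a h := by
  have hsurj : Function.Surjective a := fun τ => by
    obtain ⟨h, hh⟩ := htrans ((IsScalarTower.toAlgHom k L (AlgebraicClosure L)).comp τ.toAlgHom)
    refine ⟨h, AlgEquiv.ext fun x => (algebraMap L (AlgebraicClosure L)).injective ?_⟩
    exact (AlgHom.congr_fun hh x).symm
  have hcard : Nat.card (L ≃ₐ[k] L) = Module.finrank k L := by
    rw [← AlgHom.natCard_of_splits k L (AlgebraicClosure L) (fun _ => IsAlgClosed.splits _)]
    refine Nat.card_congr (Equiv.ofBijective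
      (fun τ => (IsScalarTower.toAlgHom k L (AlgebraicClosure L)).comp τ.toAlgHom) ⟨fun τ τ' h => ?_, fun σ => ?_⟩)
    · exact AlgEquiv.ext fun x => (algebraMap L (AlgebraicClosure L)).injective (AlgHom.congr_fun h x)
    · obtain ⟨h, hh⟩ := htrans σ
      exact ⟨a h, hh.symm⟩
  refine ⟨IsGalois.of_card_aut_eq_finrank k L hcard, Finite.of_injective a hinj,
    { toFun := fun h => (a h).symm
      invFun := fun τ => Function.surjInv hsurj τ.symm
      left_inv := fun h => hinj (by rw [Function.surjInv_eq hsurj, AlgEquiv.symm_symm])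
      right_inv := fun τ => by
        show (a (Function.surjInv hsurj τ.symm)).symm = τ
        rw [Function.surjInv_eq hsurj, AlgEquiv.symm_symm]
      map_mul' := fun g h => by
        rw [hmul]
        rfl }, fun h => AlgEquiv.symm_symm _⟩

end Groth.Agent.FreeFieldPoint
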